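import Mathlib.LinearAlgebra.Matrix.Transvection
import Mathlib.RingTheory.MvPolynomial.Homogeneous
import Mathlib.RingTheory.Localization.FractionRing
import Mathlib.Algebra.CharP.Algebra
import Mathlib.Algebra.CharP.Lemmas
import Mathlib.Tactic

/-!
# The top coefficient functional

`R` of characteristic `p`, `q = p ^ s`, `h` homogeneous of degree `n (q - 1)` in `n` variables, `g` an `n × n` matrix:
the coefficient of `∏ t_i ^ (q - 1)` in `h(t g)` is `det g ^ (q - 1)` times the coefficient in `h`.
-/

set_option autoImplicit false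

namespace K433.Tau

open MvPolynomial

variable {σ : Type*} [Fintype σ] [DecidableEq σ] {R : Type*} [CommRing R]

/-- Linear substitution `X_i ↦ ∑_j g_ij X_j`. -/
noncomputable def lsub (g : Matrix σ σ R) : MvPolynomial σ R →ₐ[R] MvPolynomial σ R :=
  aeval fun i => ∑ j, C (g i j) * X j

theorem lsub_X (g : Matrix σ σ R) (i : σ) : lsub g (X i) = ∑ j, C (g i j) * X j := by
  rw [lsub, aeval_X]

theorem lsub_lsub (g g' : Matrix σ σ R) (h : MvPolynomial σ R) : lsub g' (lsub g h) = lsub (g * g') h := by
  have e : (lsub g').comp (lsub g) = lsub (g * g') := by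
    refine MvPolynomial.algHom_ext fun i => ?_
    rw [AlgHom.comp_apply, lsub_X, lsub_X, map_sum]
    simp only [map_mul, lsub_X, algHom_C, Matrix.mul_apply, map_sum, Finset.sum_mul, Finset.mul_sum,
      MvPolynomial.algebraMap_eq]
    rw [Finset.sum_comm]
    refine Finset.sum_congr rfl fun a _ => Finset.sum_congr rfl fun b _ => ?_
    ring
  exact AlgHom.congr_fun e h

/-- The constant exponent. -/
noncomputable def top (σ : Type*) [Fintype σ] (N : ℕ) : σ →₀ ℕ := Finsupp.equivFunOnFinite.symm fun _ => N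

omit [DecidableEq σ] in
@[simp] theorem top_apply (N : ℕ) (i : σ) : top σ N i = N := rfl

/-- The monomial `∏ X_i ^ N`. -/
noncomputable def mon (σ : Type*) [Fintype σ] (R : Type*) [CommRing R] (N : ℕ) : MvPolynomial σ R :=
  ∏ i : σ, X i ^ N

omit [DecidableEq σ] in
theorem mon_eq (N : ℕ) : mon σ R N = monomial (top σ N) 1 := by
  rw [mon, monomial_eq, C_1, one_mul, Finsupp.prod_fintype _ _ fun _ => pow_zero _]
  rfl

/-- The ideal `(X_i ^ q)`. -/
noncomputable def Iq (σ : Type*) (R : Type*) [CommRing R] (q : ℕ) : Ideal (MvPolynomial σ R) :=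
  Ideal.span (Set.range fun i : σ => X i ^ q)

omit [Fintype σ] [DecidableEq σ] in
theorem coeff_of_mem_Iq {q : ℕ} {f : MvPolynomial σ R} (hf : f ∈ Iq σ R q) (a : σ →₀ ℕ) (ha : ∀ i, a i < q) :
    coeff a f = 0 := by
  classical
  revert a
  induction hf using Submodule.span_induction with
  | mem x hx =>
    intro a ha
    obtain ⟨i, rfl⟩ := hx
    dsimp only
    rw [coeff_X_pow, if_neg]
    intro h
    have := ha i
    rw [← h, Finsupp.single_eq_same] at this
    exact lt_irrefl _ this
  | zero => exact fun _ _ => rfl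
  | add x y _ _ hx hy =>
    intro a ha
    rw [coeff_add, hx a ha, hy a ha, add_zero]
  | smul r x _ hx =>
    intro a ha
    rw [smul_eq_mul, coeff_mul]
    refine Finset.sum_eq_zero fun b hb => ?_
    rw [hx b.2 fun i => ?_, mul_zero]
    have h1 := Finset.mem_antidiagonal.1 hb
    have h2 := DFunLike.congr_fun h1 i
    rw [Finsupp.add_apply] at h2
    exact lt_of_le_of_lt (by omega) (ha i)

omit [DecidableEq σ] in
/-- A form of degree `n N` is its top coefficient times `∏ X_i ^ N` modulo `(X_i ^ (N + 1))`. -/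
theorem sub_mem_Iq {N : ℕ} {h : MvPolynomial σ R} (hh : h.IsHomogeneous (Fintype.card σ * N)) :
    h - C (coeff (top σ N) h) * mon σ R N ∈ Iq σ R (N + 1) := by
  classical
  have e : h = ∑ a ∈ h.support, monomial a (coeff a h) := h.support_sum_monomial_coeff.symm
  have key : ∀ a ∈ h.support, a ≠ top σ N → monomial a (coeff a h) ∈ Iq σ R (N + 1) := by
    intro a ha hne
    have hdeg : ∑ i, a i = Fintype.card σ * N := by
      have := hh (mem_support_iff.1 ha)
      rw [Finsupp.weight_apply, Finsupp.sum_fintype _ _ (by simp)] at this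
      simpa using this
    obtain ⟨i, hi⟩ : ∃ i, N + 1 ≤ a i := by
      by_contra hcon
      push Not at hcon
      apply hne
      have h1 : ∀ i ∈ (Finset.univ : Finset σ), a i ≤ N := fun i _ => Nat.lt_succ_iff.1 (hcon i)
      have h2 : ∑ i, a i = ∑ _i : σ, N := by rw [hdeg, Finset.sum_const, Finset.card_univ, smul_eq_mul]
      ext i
      exact (Finset.sum_eq_sum_iff_of_le h1).1 h2 i (Finset.mem_univ i)
    have h3 : monomial a (coeff a h) = monomial (a - Finsupp.single i (N + 1)) (coeff a h) * X i ^ (N + 1) := by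
      rw [X_pow_eq_monomial, monomial_mul, mul_one, tsub_add_cancel_of_le]
      rw [Finsupp.single_le_iff]
      exact hi
    rw [h3]
    exact Ideal.mul_mem_left _ _ (Ideal.subset_span ⟨i, rfl⟩)
  by_cases ht : top σ N ∈ h.support
  · have e2 : h - C (coeff (top σ N) h) * mon σ R N =
        ∑ a ∈ h.support.erase (top σ N), monomial a (coeff a h) := by
      have e3 : h = monomial (top σ N) (coeff (top σ N) h) +
          ∑ a ∈ h.support.erase (top σ N), monomial a (coeff a h) := by
        rw [Finset.add_sum_erase h.support (fun a => monomial a (coeff a h)) ht]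
        exact e
      rw [mon_eq, C_mul_monomial, mul_one]
      exact sub_eq_of_eq_add' e3
    rw [e2]
    exact Ideal.sum_mem _ fun a ha => key a (Finset.mem_of_mem_erase ha) (Finset.ne_of_mem_erase ha)
  · rw [notMem_support_iff.1 ht, C_0, zero_mul, sub_zero, e]
    exact Ideal.sum_mem _ fun a ha => key a ha fun h => ht (h ▸ ha)

section Char

variable (p : ℕ) [Fact p.Prime] [CharP R p] (s : ℕ)

theorem lsub_mem_Iq (g : Matrix σ σ R) {f : MvPolynomial σ R} (hf : f ∈ Iq σ R (p ^ s)) :
    lsub g f ∈ Iq σ R (p ^ s) := by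
  have h : (Iq σ R (p ^ s)).map (lsub g).toRingHom ≤ Iq σ R (p ^ s) := by
    rw [Iq, Ideal.map_span, Ideal.span_le]
    rintro _ ⟨_, ⟨i, rfl⟩, rfl⟩
    change lsub g (X i ^ (p ^ s)) ∈ _
    rw [map_pow, lsub_X, sum_pow_char_pow]
    refine Ideal.sum_mem _ fun j _ => ?_
    rw [mul_pow]
    exact Ideal.mul_mem_left _ _ (Ideal.subset_span ⟨j, rfl⟩)
  exact h (Ideal.mem_map_of_mem _ hf)

/-- The character. -/
noncomputable def chi (N : ℕ) (g : Matrix σ σ R) : R := coeff (top σ N) (lsub g (mon σ R N))

omit [DecidableEq σ] in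
theorem isHomogeneous_mon (N : ℕ) : (mon σ R N).IsHomogeneous (Fintype.card σ * N) := by
  have : Fintype.card σ * N = ∑ _i : σ, 1 * N := by simp
  rw [mon, this]
  exact IsHomogeneous.prod _ _ _ fun i _ => (isHomogeneous_X R i).pow N

theorem isHomogeneous_lsub (g : Matrix σ σ R) {h : MvPolynomial σ R} {d : ℕ} (hh : h.IsHomogeneous d) :
    (lsub g h).IsHomogeneous d := by
  have := hh.aeval (fun i => ∑ j, C (g i j) * X j) (n := 1) fun i =>
    IsHomogeneous.sum _ _ _ fun j _ => by
      have := (isHomogeneous_C σ (g i j)).mul (isHomogeneous_X R j)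
      rwa [zero_add] at this
  rwa [one_mul] at this

theorem tau_lsub' {N : ℕ} (hN : N + 1 = p ^ s) (g : Matrix σ σ R) {h : MvPolynomial σ R}
    (hh : h.IsHomogeneous (Fintype.card σ * N)) :
    coeff (top σ N) (lsub g h) = chi N g * coeff (top σ N) h := by
  have h1 := sub_mem_Iq hh
  rw [hN] at h1
  have h2 := lsub_mem_Iq p s g h1
  have h3 := coeff_of_mem_Iq h2 (top σ N) fun i => by
    rw [top_apply, ← hN]; exact Nat.lt_succ_self N
  rw [map_sub, coeff_sub, sub_eq_zero] at h3
  rw [h3, map_mul, algHom_C, MvPolynomial.algebraMap_eq, coeff_C_mul, mul_comm]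
  rfl

theorem chi_mul {N : ℕ} (hN : N + 1 = p ^ s) (g g' : Matrix σ σ R) :
    chi N (g * g') = chi N g * chi N g' := by
  rw [chi, ← lsub_lsub, tau_lsub' p s hN g' (isHomogeneous_lsub g (isHomogeneous_mon N)), mul_comm]
  rfl

omit [CharP R p] [Fact p.Prime] in
theorem chi_diagonal (N : ℕ) (D : σ → R) : chi N (Matrix.diagonal D) = (Matrix.diagonal D).det ^ N := by
  have h : lsub (Matrix.diagonal D) (mon σ R N) = C ((∏ i, D i) ^ N) * mon σ R N := by
    rw [mon, map_prod]
    simp only [map_pow, lsub_X, Matrix.diagonal_apply]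
    have : ∀ i, ∑ j, C (if i = j then D i else 0) * X j = (C (D i) * X i : MvPolynomial σ R) := by
      intro i
      rw [Finset.sum_eq_single i]
      · rw [if_pos rfl]
      · intro j _ hj; rw [if_neg (Ne.symm hj), C_0, zero_mul]
      · intro h; exact absurd (Finset.mem_univ i) h
    simp only [this, mul_pow, Finset.prod_mul_distrib, Finset.prod_pow, map_prod]
  rw [chi, h, coeff_C_mul, mon_eq, coeff_monomial, if_pos rfl, mul_one, Matrix.det_diagonal]

theorem chi_transvection {N : ℕ} (t : Matrix.TransvectionStruct σ R) :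
    chi N t.toMatrix = 1 := by
  classical
  have hij : t.i ≠ t.j := t.hij
  have hX : ∀ l, lsub t.toMatrix (X l : MvPolynomial σ R) = if l = t.i then X t.i + C t.c * X t.j else X l := by
    intro l
    rw [lsub_X]
    simp only [Matrix.TransvectionStruct.toMatrix, Matrix.transvection, Matrix.add_apply, Matrix.one_apply,
      Matrix.single_apply, C_add, add_mul, Finset.sum_add_distrib]
    have e1 : ∑ j, C (if l = j then (1 : R) else 0) * X j = (X l : MvPolynomial σ R) := by
      rw [Finset.sum_eq_single l]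
      · rw [if_pos rfl, C_1, one_mul]
      · intro j _ hj; rw [if_neg (Ne.symm hj), C_0, zero_mul]
      · intro h; exact absurd (Finset.mem_univ l) h
    rw [e1]
    split_ifs with h
    · subst h
      rw [Finset.sum_eq_single t.j]
      · simp
      · intro j _ hj; rw [if_neg (by simp [Ne.symm hj]), C_0, zero_mul]
      · intro h; exact absurd (Finset.mem_univ _) h
    · rw [Finset.sum_eq_zero, add_zero]
      intro j _
      rw [if_neg (by rintro ⟨h1, -⟩; exact h h1.symm), C_0, zero_mul]
  -- difference from the monomial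
  have h1 : lsub t.toMatrix (mon σ R N) - mon σ R N ∈ Iq σ R (N + 1) := by
    rw [mon, map_prod]
    simp only [map_pow, hX]
    rw [← Finset.mul_prod_erase Finset.univ _ (Finset.mem_univ t.i),
      ← Finset.mul_prod_erase Finset.univ (fun i => (X i : MvPolynomial σ R) ^ N) (Finset.mem_univ t.i), if_pos rfl]
    have h2 : ∏ l ∈ Finset.univ.erase t.i, (if l = t.i then X t.i + C t.c * X t.j else (X l : MvPolynomial σ R)) ^ N =
        ∏ l ∈ Finset.univ.erase t.i, (X l : MvPolynomial σ R) ^ N :=
      Finset.prod_congr rfl fun l hl => by rw [if_neg (Finset.ne_of_mem_erase hl)]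
    have hj : t.j ∈ Finset.univ.erase t.i := Finset.mem_erase.2 ⟨hij.symm, Finset.mem_univ _⟩
    rw [h2, ← sub_mul, ← Finset.mul_prod_erase _ _ hj]
    obtain ⟨c, hc⟩ := sub_dvd_pow_sub_pow (X t.i + C t.c * X t.j) (X t.i : MvPolynomial σ R) N
    rw [hc, add_sub_cancel_left]
    have : C t.c * X t.j * c * ((X t.j) ^ N * ∏ x ∈ (Finset.univ.erase t.i).erase t.j, (X x : MvPolynomial σ R) ^ N) =
        (C t.c * c * ∏ x ∈ (Finset.univ.erase t.i).erase t.j, (X x : MvPolynomial σ R) ^ N) * X t.j ^ (N + 1) := by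
      ring
    rw [this]
    exact Ideal.mul_mem_left _ _ (Ideal.subset_span ⟨t.j, rfl⟩)
  have h2 := coeff_of_mem_Iq h1 (top σ N) fun i => Nat.lt_succ_self N
  rw [coeff_sub, sub_eq_zero] at h2
  rw [chi, h2, mon_eq, coeff_monomial, if_pos rfl]

theorem chi_field {K : Type*} [Field K] [CharP K p] {N : ℕ} (hN : N + 1 = p ^ s) (g : Matrix σ σ K) :
    chi N g = g.det ^ N := by
  induction g using Matrix.diagonal_transvection_induction with
  | hdiag D hD => exact chi_diagonal N D
  | htransvec t => rw [chi_transvection, Matrix.TransvectionStruct.det, one_pow]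
  | hmul A B hA hB => rw [chi_mul p s hN, hA, hB, Matrix.det_mul, mul_pow]

omit [CharP R p] [Fact p.Prime] in
theorem map_lsub {S : Type*} [CommRing S] (f : R →+* S) (g : Matrix σ σ R) (h : MvPolynomial σ R) :
    map f (lsub g h) = lsub (g.map f) (map f h) := by
  have e : (map f).comp (lsub g).toRingHom = (lsub (g.map f)).toRingHom.comp (map f) := by
    refine MvPolynomial.ringHom_ext (fun r => ?_) fun i => ?_
    · simp [lsub]
    · change map f (lsub g (X i)) = lsub (g.map f) (map f (X i))
      rw [map_X, lsub_X, lsub_X, map_sum]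
      simp
  exact RingHom.congr_fun e h

omit [CharP R p] [Fact p.Prime] in
theorem map_chi {S : Type*} [CommRing S] (f : R →+* S) (N : ℕ) (g : Matrix σ σ R) :
    f (chi N g) = chi N (g.map f) := by
  rw [chi, chi, ← coeff_map, map_lsub]
  congr 2
  rw [mon_eq, mon_eq, map_monomial, map_one]

theorem chi_eq {N : ℕ} (hN : N + 1 = p ^ s) (g : Matrix σ σ R) : chi N g = g.det ^ N := by
  classical
  let P := MvPolynomial (σ × σ) (ZMod p)
  let G : Matrix σ σ P := fun i j => X (i, j)
  have hcF : CharP (FractionRing P) p := by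
    have h1 : CharP P p := inferInstance
    exact charP_of_injective_algebraMap (IsFractionRing.injective P (FractionRing P)) p
  have h1 : chi N G = G.det ^ N := by
    apply IsFractionRing.injective P (FractionRing P)
    rw [map_chi, chi_field p s hN, map_pow, RingHom.map_det]
    rfl
  letI : Algebra (ZMod p) R := ZMod.algebra R p
  let φ : P →+* R := (aeval fun ij : σ × σ => g ij.1 ij.2 : P →ₐ[ZMod p] R).toRingHom
  have hφ : G.map φ = g := by
    ext i j
    change (aeval fun ij : σ × σ => g ij.1 ij.2 : P →ₐ[ZMod p] R) (X (i, j)) = g i j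
    rw [aeval_X]
  rw [← hφ, ← map_chi, h1, map_pow, RingHom.map_det]
  rfl

/-- **Equivariance of the top coefficient.** -/
theorem tau_lsub {N : ℕ} (hN : N + 1 = p ^ s) (g : Matrix σ σ R) {h : MvPolynomial σ R}
    (hh : h.IsHomogeneous (Fintype.card σ * N)) :
    coeff (top σ N) (lsub g h) = g.det ^ N * coeff (top σ N) h := by
  rw [tau_lsub' p s hN g hh, chi_eq p s hN]

end Char

end K433.Tau
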