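import Groth.Agent.ResProp.EF.K65.Defs
import Groth.Agent.ResProp.EF.K433.Tau

/-!
# (T0) in the language of `K65.Defs`
-/

set_option autoImplicit false

universe u

namespace Groth.Agent.ResProp.EF.K433

open MvPolynomial Groth.Agent.ResProp.EF.K65

theorem topE_eq (N q : ℕ) : topE N q = K433.Tau.top (Fin N) (q - 1) := rfl

theorem vact_eq {N : ℕ} {S : Type u} [CommRing S] (g : Matrix (Fin N) (Fin N) S) (f : MvPolynomial (Fin N) S) :
    vact g f = K433.Tau.lsub g.transpose f := by
  rw [vact, K433.Tau.lsub]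
  congr 1
  congr 1
  funext j
  exact Finset.sum_congr rfl fun k _ => mul_comm _ _

theorem tau_eq (q : ℕ) {N : ℕ} {S : Type u} [CommRing S] (f : MvPolynomial (Fin N) S) :
    tau q f = coeff (topE N q) f := rfl

/-- (T0). -/
theorem t0 (p : ℕ) [Fact p.Prime] : T0.{u} p := by
  intro S _ _ N s g f hf
  have h1 : p ^ s - 1 + 1 = p ^ s := Nat.sub_add_cancel (Nat.pow_pos (Fact.out : p.Prime).pos)
  rw [tau_eq, tau_eq, topE_eq, vact_eq, K433.Tau.tau_lsub p s h1 g.transpose (by simpa using hf),
    Matrix.det_transpose]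

end Groth.Agent.ResProp.EF.K433
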